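/-
Checks of the triple cover of Ω₇(3), permutations and block sets.
-/
import Cfsg.Agent.Lib.MultiplierOSeven.DataCover

set_option autoImplicit false
set_option maxRecDepth 100000
set_option Elab.async false

namespace Cfsg.Agent.MultiplierOSeven

open Cfsg.Agent.StabCert

theorem perm_all : ((List.range 6).all fun k => Cover.cover.permOK 378 k) = true := by decide +kernel
theorem block0 : ((List.range 3).all fun k => Cover.cover.blockOK 378 10 Cover.tab k) = true := by decide +kernel
theorem block3 : ((List.range 3).all fun k => Cover.cover.blockOK 378 10 Cover.tab (k + 3)) = true := by decide +kernel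

end Cfsg.Agent.MultiplierOSeven
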