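/-
Checks of the triple cover of Ω₇(3), edges of the generators 0, 1, 2.
-/
import Cfsg.Agent.Lib.MultiplierOSeven.DataCover

set_option autoImplicit false
set_option maxRecDepth 100000
set_option Elab.async false

namespace Cfsg.Agent.MultiplierOSeven

open Cfsg.Agent.StabCert

theorem edge0 : Cover.cover.edgeOK 378 3 0 = true := by decide +kernel
theorem edge1 : Cover.cover.edgeOK 378 3 1 = true := by decide +kernel
theorem edge2 : Cover.cover.edgeOK 378 3 2 = true := by decide +kernel

end Cfsg.Agent.MultiplierOSeven
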