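/-
Checks of the triple cover of Ω₇(3), shape and tree.
-/
import Cfsg.Agent.Lib.MultiplierOSeven.DataCover

set_option autoImplicit false
set_option maxRecDepth 100000
set_option Elab.async false

namespace Cfsg.Agent.MultiplierOSeven

open Cfsg.Agent.StabCert

theorem shape_ok : Cover.cover.shapeOK 378 3 756 = true := by decide +kernel
theorem tree_ok : Cover.cover.treeOK 378 3 = true := by decide +kernel
/-- The blocks are consecutive pairs. -/
theorem pairs_ok : Cover.cover.blocks = (List.range 378).map fun i => [2 * i, 2 * i + 1] := by decide +kernel

end Cfsg.Agent.MultiplierOSeven
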