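/-
Root elements of `Ω₇(3)`: codes, generation by six of them, and the action on triples.

* `eich_eq_gen`: the letters are Eichler transformations; `closure_simple`: six of them generate Ω.
* `exists_trip`: a monomial word takes the standard pair of a short and a long root to any other.
-/
import Cfsg.Agent.Lib.OSevenThree.Elements
import Cfsg.Agent.Lib.MultiplierOSeven.DataRoots
import Cfsg.Agent.Lib.OrthBN.Models
import Cfsg.Agent.Lib.OrthMult.Ext
import Cfsg.Agent.Lib.ChevOrth.EichlerAny

set_option autoImplicit false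
set_option linter.unusedSectionVars false
set_option maxRecDepth 100000

open Cfsg
open QuadraticMap (polar)

namespace Cfsg.Agent.MultiplierOSeven

open OSevenThree CurtisTitsD
open Cfsg.Agent.OrthBN (OFrame frameOdd frameOdd_off)

/-- Signed indices. -/
abbrev SI3 := Fin 3 ⊕ Fin 3

/-- The frame. -/
noncomputable abbrev Φ7 : OFrame Q7 3 := frameOdd (F := ZMod 3) 3 two_ne_zero_three

/-- The position of a signed index. -/
def posS (a : SI3) : ℕ := pos (.inr a)

/-- The vector outside the frame. -/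
noncomputable def w0 : Idx → ZMod 3 := Pi.single (.inl ()) 1

theorem v_eq (a : SI3) : Φ7.v a = toVec (unitVec (posS a)) := by
  rw [posS, toVec_unitVec]; rfl

theorem w0_eq : w0 = toVec 1 := by
  rw [w0, ← toVec_unitVec]; rfl

/-- The image of a vector under an Eichler transformation, on codes. -/
def eichImg (u w x : ℕ) : ℕ :=
  let b := bCode u x
  let k := (bCode w x + qCode w * b) % 3
  let d := fun j => (dg x j + b * dg w j + 2 * k * dg u j) % 3
  pack (d 0) (d 1) (d 2) (d 3) (d 4) (d 5) (d 6)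

/-- A letter is the Eichler transformation of its two vectors. -/
def eichOK (u w : ℕ) (p : List ℕ × List ℕ) : Bool :=
  okElt p.1 p.2 && qCode u == 0 && bCode u w == 0 &&
    (List.range 7).all fun j => app p.1 (unitVec j) == eichImg u w (unitVec j)

theorem eich_eq_elt {u w : ℕ} {p : List ℕ × List ℕ} (h : eichOK u w p = true) :
    Orth.eich Q7 (toVec u) (toVec w) = elt p := by
  simp only [eichOK, Bool.and_eq_true, beq_iff_eq, List.all_eq_true, List.mem_range] at h
  obtain ⟨⟨⟨hok, hu⟩, hw⟩, himg⟩ := h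
  have hu' : Q7 (toVec u) = 0 := by rw [qCode_spec, hu, Nat.cast_zero]
  have hw' : polar ⇑Q7 (toVec u) (toVec w) = 0 := by rw [bCode_spec, hw, Nat.cast_zero]
  apply mat_injective
  refine Matrix.ext_of_mulVec_single fun i => ?_
  show Orth.ap (Orth.eich Q7 (toVec u) (toVec w)) (Pi.single i 1) = Orth.ap (elt p) (Pi.single i 1)
  rw [← toVec_unitVec, ap_toVec (mat_elt hok), himg _ (pos_lt i), Orth.eich_ap hu' hw', bCode_spec,
    bCode_spec, qCode_spec]
  funext k
  have hlt : ∀ n : ℕ, n % 3 < 64 := fun n => (Nat.mod_lt _ (by norm_num)).trans (by norm_num)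
  simp only [toVec, eichImg, Pi.add_apply, Pi.sub_apply, Pi.smul_apply, smul_eq_mul]
  rw [dg_pack (hlt _) (hlt _) (hlt _) (hlt _) (hlt _) (hlt _) (hlt _) (pos_lt k)]
  have key : ∀ j < 7, ∀ f : ℕ → ℕ, [f 0, f 1, f 2, f 3, f 4, f 5, f 6].getD j 0 = f j := by
    intro j hj f
    interval_cases j <;> rfl
  rw [key _ (pos_lt k) fun j => (dg (unitVec (pos i)) j + bCode u (unitVec (pos i)) * dg w j +
    2 * ((bCode w (unitVec (pos i)) + qCode w * bCode u (unitVec (pos i))) % 3) * dg u j) % 3]
  simp only [ZMod.natCast_mod, Nat.cast_add, Nat.cast_mul, show ((2 : ℕ) : ZMod 3) = -1 by decide]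
  ring

/-- The check of the letters. -/
def rootsOK : Bool :=
  okAlphabet alphabet && (List.range 30).all fun k =>
    eichOK (roots.getD k (0, 0)).1 (roots.getD k (0, 0)).2 (alphabet.getD k (one, one)) &&
      code alphabet [k, k + 30] == one && code alphabet [k + 30, k] == one &&
      code alphabet [k, k, k] == one && code alphabet [k + 30, k + 30, k + 30] == one

theorem roots_ok : rootsOK = true := by decide +kernel

theorem okA : okAlphabet alphabet = true := (Bool.and_eq_true _ _ |>.mp roots_ok).1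

theorem root_spec {k : ℕ} (hk : k < 30) :
    Orth.eich Q7 (toVec (roots.getD k (0, 0)).1) (toVec (roots.getD k (0, 0)).2) = gen alphabet k ∧
      gen alphabet (k + 30) = (gen alphabet k)⁻¹ ∧ gen alphabet k ^ 3 = 1 ∧
      gen alphabet (k + 30) ^ 3 = 1 := by
  have h := roots_ok
  simp only [rootsOK, Bool.and_eq_true, List.all_eq_true, List.mem_range, beq_iff_eq] at h
  obtain ⟨⟨⟨⟨he, h1⟩, -⟩, h3⟩, h4⟩ := h.2 k hk
  have hone : code alphabet [] = one := rfl
  have nil : eval alphabet [] = 1 := List.prod_nil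
  have e1 := eval_eq_of_code okA (w' := []) (h1.trans hone.symm)
  have e3 := eval_eq_of_code okA (w' := []) (h3.trans hone.symm)
  have e4 := eval_eq_of_code okA (w' := []) (h4.trans hone.symm)
  simp only [eval_cons, nil, mul_one] at e1 e3 e4
  exact ⟨eich_eq_elt he, eq_inv_of_mul_eq_one_right e1, by rw [pow_three]; exact e3,
    by rw [pow_three]; exact e4⟩

theorem gen_mem_omega7 (k : ℕ) : gen alphabet k ∈ Omega (ZMod 3) ⇑Q7 := by
  refine mem_omega_of_cube ?_
  by_cases hk : k < 30
  · exact (root_spec hk).2.2.1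
  by_cases hk' : k < 60
  · obtain ⟨j, rfl⟩ : ∃ j, k = j + 30 := ⟨k - 30, by omega⟩
    exact (root_spec (by omega)).2.2.2
  · have : gen alphabet k = 1 := by
      have hl : alphabet.length = 60 := by decide +kernel
      rw [gen, List.getD_eq_default _ _ (by omega), elt, dif_pos okElt_one]
      apply mat_injective
      show toMat one = _
      rw [toMat_one]
      rfl
    rw [this, one_pow]

theorem mem_six (S : Subgroup O7) (h : ∀ k ∈ simpleRoots, gen alphabet k ∈ S) {k : ℕ} (hk : k < 30) :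
    gen alphabet k ∈ S := by
  have hc : ((List.range 30).all fun k => code alphabet (rootWords.getD k []) == code alphabet [k] &&
      (rootWords.getD k []).all fun l => Nat.blt l 60 && (simpleRoots.contains l || Nat.ble 30 l &&
        simpleRoots.contains (l - 30))) = true := by decide +kernel
  simp only [List.all_eq_true, List.mem_range, Bool.and_eq_true, beq_iff_eq, Bool.or_eq_true,
    List.contains_iff_mem, Nat.blt_eq, Nat.ble_eq] at hc
  obtain ⟨hcode, hl⟩ := hc k hk
  have e := eval_eq_of_code okA hcode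
  rw [show eval alphabet [k] = gen alphabet k by simp [eval]] at e
  rw [← e]
  refine eval_mem fun l hlw => ?_
  obtain ⟨h60, hs | ⟨h30, hs⟩⟩ := hl l hlw
  · exact h l hs
  · obtain ⟨j, rfl⟩ : ∃ j, l = j + 30 := ⟨l - 30, by omega⟩
    rw [Nat.add_sub_cancel] at hs
    rw [(root_spec (by omega)).2.1]
    exact inv_mem (h j hs)

/-- The index of the root element with given vectors. -/
def rootIx (u w : ℕ) : ℕ := roots.findIdx fun p => p.1 == u && p.2 == w

theorem rootIx_spec {u w : ℕ} (h : rootIx u w < 30) :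
    Orth.eich Q7 (toVec u) (toVec w) = gen alphabet (rootIx u w) := by
  have hl : rootIx u w < roots.length := h
  have hp := List.findIdx_getElem (p := fun p : ℕ × ℕ => p.1 == u && p.2 == w) (xs := roots) (w := hl)
  simp only [Bool.and_eq_true, beq_iff_eq] at hp
  have := (root_spec h).1
  rw [List.getD_eq_getElem _ _ hl] at this
  rw [← this]
  have e1 : roots[rootIx u w].1 = u := hp.1
  have e2 : roots[rootIx u w].2 = w := hp.2
  rw [e1, e2]

theorem closure_simple :
    Subgroup.closure ((gen alphabet) '' {k | k ∈ simpleRoots}) = Omega (ZMod 3) ⇑Q7 := by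
  classical
  set S := Subgroup.closure ((gen alphabet) '' {k | k ∈ simpleRoots}) with hS
  refine le_antisymm ((Subgroup.closure_le _).2 (by rintro _ ⟨k, -, rfl⟩; exact gen_mem_omega7 k)) ?_
  have hp : ∀ i : Fin 3, Orth.HPair Q7 (Φ7.v (.inl i)) (Φ7.v (.inr i)) := fun i =>
    ⟨Φ7.sing _, Φ7.sing _, OrthMult.pl_vbar (Φ := Φ7) _⟩
  have hperp : ∀ a : SI3, OrthMult.ix a = 1 →
      Φ7.v a ∈ Orth.perp Q7 (Φ7.v (.inl 0)) (Φ7.v (.inr 0)) := by
    intro a ha
    have : ∀ c : SI3, OrthMult.ix c = 0 → Adm c a := fun c hc =>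
      Adm.of_idx (show OrthMult.ix c ≠ OrthMult.ix a by rw [hc, ha]; decide)
    exact Orth.mem_perp.2 ⟨OrthMult.adm_pl (Φ := Φ7) (this _ rfl), OrthMult.adm_pl (Φ := Φ7) (this _ rfl)⟩
  refine (ChevOrth.omega_le_eichPair good7 (hp 0) (hp 1) (hperp _ rfl) (hperp _ rfl) (by simp)).trans ?_
  rw [Orth.eichPair, Subgroup.closure_le]
  rintro g ⟨w, hw, hg⟩
  obtain ⟨w1, w2⟩ := Orth.mem_perp.1 hw
  have h14 : w (.inr (.inl 0)) = 0 ∧ w (.inr (.inr 0)) = 0 := by
    simp [Orth.coe_quadOdd, Orth.polar_quadOdd, frameOdd, Pi.single_apply, Fin.sum_univ_three] at w1 w2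
    exact ⟨w2, w1⟩
  have key : ∀ e : SI3, (e = .inl 0 ∨ e = .inr 0) → Orth.eich Q7 (Φ7.v e) w ∈ S := by
    intro e he
    have hroot : ∀ i : Idx, i ≠ .inr (.inl 0) → i ≠ .inr (.inr 0) →
        rootIx (unitVec (posS e)) (unitVec (pos i)) < 30 := by
      rcases he with rfl | rfl <;> decide +kernel
    have hunit : ∀ (i : Idx) (c : ZMod 3), (i = .inr (.inl 0) ∨ i = .inr (.inr 0) → c = 0) →
        polar ⇑Q7 (Φ7.v e) (Pi.single i c) = 0 ∧ Orth.eich Q7 (Φ7.v e) (Pi.single i c) ∈ S := by
      intro i c hc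
      rcases eq_or_ne c 0 with rfl | hne
      · rw [Pi.single_zero, Orth.eich_zero]
        exact ⟨Orth.pl_zero_right Q7 _, one_mem _⟩
      have h1 : i ≠ .inr (.inl 0) := fun q => hne (hc (.inl q))
      have h4 : i ≠ .inr (.inr 0) := fun q => hne (hc (.inr q))
      have hb : polar ⇑Q7 (Φ7.v e) (Pi.single i 1) = 0 := by
        have := (show ∀ i : Idx, i ≠ .inr (.inl 0) → i ≠ .inr (.inr 0) →
          bCode (unitVec (posS e)) (unitVec (pos i)) = 0 by rcases he with rfl | rfl <;> decide +kernel) i h1 h4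
        rw [v_eq, ← toVec_unitVec, bCode_spec, this, Nat.cast_zero]
      have he1 : Orth.eich Q7 (Φ7.v e) (Pi.single i 1) ∈ S := by
        rw [v_eq, ← toVec_unitVec, rootIx_spec (hroot i h1 h4)]
        exact mem_six S (fun k hk => Subgroup.subset_closure ⟨k, hk, rfl⟩) (hroot i h1 h4)
      have hc2 : ∀ c : ZMod 3, c ≠ 0 → c = 1 ∨ c = 1 + 1 := by decide
      rcases hc2 c hne with rfl | rfl
      · exact ⟨hb, he1⟩
      · rw [Pi.single_add, Orth.pl_add_right, hb, add_zero, ← Orth.eich_add (Φ7.sing e) hb hb]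
        exact ⟨rfl, mul_mem he1 he1⟩
    have main : ∀ s : Finset Idx, polar ⇑Q7 (Φ7.v e) (∑ i ∈ s, Pi.single i (w i)) = 0 ∧
        Orth.eich Q7 (Φ7.v e) (∑ i ∈ s, Pi.single i (w i)) ∈ S := by
      intro s
      induction s using Finset.induction_on with
      | empty => rw [Finset.sum_empty, Orth.eich_zero]; exact ⟨Orth.pl_zero_right Q7 _, one_mem _⟩
      | insert a t ha ih =>
        obtain ⟨b1, b2⟩ := hunit a (w a) (by rintro (rfl | rfl) <;> [exact h14.1; exact h14.2])
        rw [Finset.sum_insert ha, Orth.pl_add_right, b1, ih.1, add_zero,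
          ← Orth.eich_add (Φ7.sing e) b1 ih.1]
        exact ⟨rfl, mul_mem b2 ih.2⟩
    have := (main Finset.univ).2
    rwa [Finset.univ_sum_single] at this
  rcases hg with rfl | rfl
  · exact key _ (.inl rfl)
  · exact key _ (.inr rfl)

/-- The inverse word. -/
def winvA (w : List ℕ) : List ℕ := w.reverse.map fun l => if l < 30 then l + 30 else l - 30

/-- A conjugating word for a pair of roots. -/
def tripOK (s k : ℕ) : Bool :=
  tripWords.any fun t => t.1 == s && t.2.1 == k &&
    code alphabet (t.2.2.1 ++ [24]) == code alphabet ((if t.2.2.2.1 then s + 30 else s) :: t.2.2.1) &&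
    code alphabet (t.2.2.1 ++ [5]) == code alphabet ((if t.2.2.2.2 then k + 30 else k) :: t.2.2.1)

/-- The short root of an index. -/
def shortIx (a : SI3) : ℕ := rootIx (unitVec (posS a)) 1

/-- The long root of an ordered pair. -/
def longIx (x y : SI3) : ℕ := rootIx (unitVec (posS y)) (unitVec (posS x))

theorem trip_ok : ∀ a x y : SI3, OrthMult.ix a ≠ OrthMult.ix x → OrthMult.ix a ≠ OrthMult.ix y →
    OrthMult.ix x ≠ OrthMult.ix y →
      shortIx a < 30 ∧ longIx x y < 30 ∧ tripOK (shortIx a) (longIx x y) = true := by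
  decide +kernel

/-- The standard short root element. -/
noncomputable def L0 : O7 := gen alphabet 24

/-- The standard long root element. -/
noncomputable def H0 : O7 := gen alphabet 5

theorem commute_L0_H0 : Commute L0 H0 := by
  have := eval_eq_of_code okA (w := [24, 5]) (w' := [5, 24]) (by decide +kernel)
  simpa [eval, L0, H0, Commute, SemiconjBy] using this

theorem exists_trip {a x y : SI3} (h1 : OrthMult.ix a ≠ OrthMult.ix x) (h2 : OrthMult.ix a ≠ OrthMult.ix y)
    (h3 : OrthMult.ix x ≠ OrthMult.ix y) :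
    ∃ g ∈ Omega (ZMod 3) ⇑Q7,
      (g * L0 * g⁻¹ = Orth.eich Q7 (Φ7.v a) w0 ∨ g * L0 * g⁻¹ = (Orth.eich Q7 (Φ7.v a) w0)⁻¹) ∧
      (g * H0 * g⁻¹ = Orth.eich Q7 (Φ7.v y) (Φ7.v x) ∨ g * H0 * g⁻¹ = (Orth.eich Q7 (Φ7.v y) (Φ7.v x))⁻¹) := by
  obtain ⟨hs, hk, h⟩ := trip_ok a x y h1 h2 h3
  have eS : Orth.eich Q7 (Φ7.v a) w0 = gen alphabet (shortIx a) := by
    rw [v_eq, w0_eq]; exact rootIx_spec hs
  have eL : Orth.eich Q7 (Φ7.v y) (Φ7.v x) = gen alphabet (longIx x y) := by
    rw [v_eq, v_eq]; exact rootIx_spec hk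
  simp only [tripOK, List.any_eq_true, Bool.and_eq_true, beq_iff_eq] at h
  obtain ⟨⟨s', k', w, p, q⟩, -, ⟨⟨rfl, rfl⟩, hl⟩, hh⟩ := h
  refine ⟨eval alphabet w, eval_mem fun i _ => gen_mem_omega7 i, ?_, ?_⟩
  · have e := eval_eq_of_code okA hl
    simp only [eval_append, eval_cons] at e
    rw [show eval alphabet [] = 1 from List.prod_nil, mul_one, ← L0] at e
    rw [e, mul_inv_cancel_right, eS]
    cases p <;> simp [(root_spec hs).2.1]
  · have e := eval_eq_of_code okA hh
    simp only [eval_append, eval_cons] at e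
    rw [show eval alphabet [] = 1 from List.prod_nil, mul_one, ← H0] at e
    rw [e, mul_inv_cancel_right, eL]
    cases q <;> simp [(root_spec hk).2.1]

end Cfsg.Agent.MultiplierOSeven
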