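/-
The deviations in a central extension of `Ω₇(3)`.

* `exists_dev`: lifts of a short and of a long root element at the two other indices have their commutators in
  one subgroup of order dividing three; modulo it the extension satisfies `ThirdCommute`.
-/
import Cfsg.Agent.Lib.MultiplierOSeven.Roots
import Mathlib.GroupTheory.QuotientGroup.Basic

set_option autoImplicit false
set_option linter.unusedSectionVars false

open Cfsg
open QuadraticMap (polar)
open scoped commutatorElement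

namespace Cfsg.Agent.MultiplierOSeven

open OSevenThree CurtisTitsD

variable {Γ : Type} [Group Γ]

theorem comm_inv_left {g h c : Γ} (hc : c ∈ Subgroup.center Γ) (e : ⁅g, h⁆ = c) : ⁅g⁻¹, h⁆ = c⁻¹ := by
  have e1 : g * h = c * (h * g) := by rw [← e, commutatorElement_def]; group
  have e2 : h * g⁻¹ = c * (g⁻¹ * h) := by
    calc h * g⁻¹ = g⁻¹ * (g * h) * g⁻¹ := by group
      _ = (g⁻¹ * c) * (h * g) * g⁻¹ := by rw [e1]; group
      _ = c * (g⁻¹ * h) := by rw [Subgroup.mem_center_iff.1 hc]; group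
  calc ⁅g⁻¹, h⁆ = g⁻¹ * h * (h * g⁻¹)⁻¹ := by rw [commutatorElement_def]; group
    _ = _ := by rw [e2]; group

theorem comm_inv_right {g h c : Γ} (hc : c ∈ Subgroup.center Γ) (e : ⁅g, h⁆ = c) : ⁅g, h⁻¹⁆ = c⁻¹ := by
  have e' : ⁅h, g⁆ = c⁻¹ := by rw [← commutatorElement_inv, e]
  rw [← commutatorElement_inv, comm_inv_left (inv_mem hc) e', inv_inv]

variable (π : Γ →* O7)

theorem exists_dev (hr : π.range = Omega (ZMod 3) ⇑Q7) (hc : π.ker ≤ Subgroup.center Γ) :
    ∃ c : Γ, c ∈ π.ker ∧ c ^ 3 = 1 ∧ ∀ (a x y : SI3) (w : Idx → ZMod 3), Φ7.Off w →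
      OrthMult.ix a ≠ OrthMult.ix x → OrthMult.ix a ≠ OrthMult.ix y → OrthMult.ix x ≠ OrthMult.ix y →
      ∀ (t : ZMod 3) (g h : Γ), π g = Orth.eich Q7 (Φ7.v a) w →
        π h = Orth.eich Q7 (Φ7.v y) (t • Φ7.v x) → ⁅g, h⁆ ∈ Subgroup.zpowers c := by
  have lift : ∀ z ∈ Omega (ZMod 3) ⇑Q7, ∃ u, π u = z := fun z hz => by
    rw [← hr] at hz; exact hz
  obtain ⟨L, hL⟩ := lift L0 (gen_mem_omega7 24)
  obtain ⟨H, hH⟩ := lift H0 (gen_mem_omega7 5)
  set c := ⁅L, H⁆
  have hck : c ∈ π.ker := by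
    rw [MonoidHom.mem_ker, map_commutatorElement, hL, hH, commutatorElement_eq_one_iff_commute]
    exact commute_L0_H0
  have hcc := hc hck
  have hH3 : H ^ 3 ∈ Subgroup.center Γ := hc (by
    rw [MonoidHom.mem_ker, map_pow, hH]; exact (root_spec (k := 5) (by norm_num)).2.2.1)
  have h3 : c ^ 3 = 1 := by
    have e : L * H * L⁻¹ = c * H := by simp only [c, commutatorElement_def]; group
    have e3 := congrArg (· ^ 3) e
    simp only [conj_pow, (show Commute c H from ((Subgroup.mem_center_iff.1 hcc) H).symm).mul_pow] at e3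
    rw [Subgroup.mem_center_iff.1 hH3 L, mul_inv_cancel_right] at e3
    exact right_eq_mul.1 e3
  refine ⟨c, hck, h3, fun a x y w hw h1 h2 h3' t g h hg hh => ?_⟩
  set K := Subgroup.zpowers c
  have hcK : c ∈ K := Subgroup.mem_zpowers c
  have hKc : K ≤ Subgroup.center Γ := Subgroup.zpowers_le.2 hcc
  obtain ⟨n, hn, hnL, hnH⟩ := exists_trip h1 h2 h3'
  obtain ⟨N, hN⟩ := lift n hn
  set A := N * L * N⁻¹
  set B := N * H * N⁻¹
  have hAB : ⁅A, B⁆ = c := by
    rw [← conjugate_commutatorElement, show N * c * N⁻¹ = c by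
      rw [Subgroup.mem_center_iff.1 hcc N, mul_inv_cancel_right]]
  have hA : π A = n * L0 * n⁻¹ := by simp [A, hN, hL]
  have hB : π B = n * H0 * n⁻¹ := by simp [B, hN, hH]
  -- lifts of the two root elements
  obtain ⟨A', hA', hA''⟩ : ∃ A', π A' = Orth.eich Q7 (Φ7.v a) w0 ∧ ∀ B', ⁅A, B'⁆ ∈ K → ⁅A', B'⁆ ∈ K := by
    rcases hnL with e | e
    · exact ⟨A, hA.trans e, fun _ q => q⟩
    · exact ⟨A⁻¹, by rw [map_inv, hA, e, inv_inv],
        fun B' q => by rw [comm_inv_left (hKc q) rfl]; exact inv_mem q⟩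
  obtain ⟨B', hB', hB''⟩ : ∃ B', π B' = Orth.eich Q7 (Φ7.v y) (Φ7.v x) ∧ ⁅A, B'⁆ ∈ K := by
    rcases hnH with e | e
    · exact ⟨B, hB.trans e, hAB ▸ hcK⟩
    · exact ⟨B⁻¹, by rw [map_inv, hB, e, inv_inv],
        by rw [comm_inv_right hcc hAB]; exact inv_mem hcK⟩
  have hk := hA'' B' hB''
  have three : ∀ s : ZMod 3, s = 0 ∨ s = 1 ∨ s = -1 := by decide
  obtain ⟨s, rfl⟩ : ∃ s : ZMod 3, w = s • w0 := ⟨w (.inl ()), OrthBN.frameOdd_off (h2 := two_ne_zero_three) hw⟩
  have first : ∀ g, π g = Orth.eich Q7 (Φ7.v a) (s • w0) → ⁅g, B'⁆ ∈ K := by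
    intro g hg
    rcases three s with rfl | rfl | rfl
    · rw [zero_smul, Orth.eich_zero] at hg
      rw [OrthMult.comm_congr' hc (a' := 1) (b' := B') (by rw [hg, map_one]) rfl, commutatorElement_one_left]
      exact one_mem _
    · rw [one_smul] at hg
      rwa [OrthMult.comm_congr' hc (a' := A') (b' := B') (hg.trans hA'.symm) rfl]
    · rw [neg_one_smul, ← Orth.eich_inv, ← hA', ← map_inv] at hg
      rw [OrthMult.comm_congr' hc (a' := A'⁻¹) (b' := B') hg rfl, comm_inv_left (hKc hk) rfl]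
      exact inv_mem hk
  have hgB := first g hg
  rcases three t with rfl | rfl | rfl
  · rw [zero_smul, Orth.eich_zero] at hh
    rw [OrthMult.comm_congr' hc (a' := g) (b' := 1) rfl (by rw [hh, map_one]), commutatorElement_one_right]
    exact one_mem _
  · rw [one_smul] at hh
    rwa [OrthMult.comm_congr' hc (a' := g) (b' := B') rfl (hh.trans hB'.symm)]
  · rw [neg_one_smul, ← Orth.eich_inv, ← hB', ← map_inv] at hh
    rw [OrthMult.comm_congr' hc (a' := g) (b' := B'⁻¹) rfl hh, comm_inv_right (hKc hgB) rfl]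
    exact inv_mem hgB

end Cfsg.Agent.MultiplierOSeven
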