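/-
The bound six for the kernels of stem extensions of PΩ₇(3), and its double cover.

* `pomega_equiv`; `exists_surj_six`: kernels are images of a cyclic group of order six.
* `exists_double_cover`.
-/
import Cfsg.Agent.Lib.MultiplierOSeven.Deviation
import Cfsg.Agent.Lib.OrthMult.Model
import Cfsg.Agent.Lib.Orth.Order
import Cfsg.Agent.Lib.OrthMult.Odd

set_option autoImplicit false
set_option linter.unusedSectionVars false
set_option linter.style.haveILetI false

open Cfsg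
open QuadraticMap (polar)

namespace Cfsg.Agent.MultiplierOSeven

open OSevenThree CurtisTitsD
open Cfsg.Agent.OrthBN (frameOdd_off)

/-- The group. -/
abbrev P7 : Type := Cfsg.POmega (ZMod 3) ⇑Q7

theorem h2_three : (2 : ZMod 3) ≠ 0 := two_ne_zero_three

theorem card_idx : Fintype.card Idx = 7 := by simp

theorem omega_eq : Omega (ZMod 3) ⇑Q7 = Orth.eichGen Q7 :=
  Orth.omega_eq_eichGen good7 (by rw [card_idx]; norm_num) (.inr (by rw [card_idx]; norm_num))

theorem perfect7 : Omega (ZMod 3) ⇑Q7 ≤ ⁅Omega (ZMod 3) ⇑Q7, Omega (ZMod 3) ⇑Q7⁆ :=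
  Orth.omega_le_commutator_omega good7 (by rw [card_idx]; norm_num)

theorem center_eq_bot : Subgroup.center (Omega (ZMod 3) ⇑Q7) = ⊥ :=
  Orth.center_omega_eq_bot (Orth.quadOdd_nondeg 3 h2_three) (by rw [card_idx]; norm_num) omega_eq.ge
    (.inl (OrthMult.negOne_notMem_of_odd Q7 h2_three ⟨3, card_idx⟩))

theorem mk_bijective : Function.Bijective (QuotientGroup.mk' (Subgroup.center (Omega (ZMod 3) ⇑Q7))) :=
  ⟨(MonoidHom.ker_eq_bot_iff _).1 (by rw [QuotientGroup.ker_mk', center_eq_bot]),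
    QuotientGroup.mk'_surjective _⟩

/-- PΩ is Ω. -/
noncomputable def pomega_equiv : Omega (ZMod 3) ⇑Q7 ≃* P7 := MulEquiv.ofBijective _ mk_bijective

theorem omega_perfect : commutator (Omega (ZMod 3) ⇑Q7) = ⊤ := by
  refine top_le_iff.1 fun x _ => ?_
  have h := perfect7 x.2
  rw [← Subgroup.map_subtype_commutator] at h
  obtain ⟨y, hy, e⟩ := h
  rwa [← Subtype.ext (a1 := y) (a2 := x) e]

theorem ok7 : SLMult.Ok (Fin 3) (ZMod 3) := by
  refine ⟨by simp, fun _ => ⟨by simp, by simp⟩, fun _ => by simp⟩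

theorem hline7 : ∀ w, Φ7.Off w → ∃ c : ZMod 3, w = c • w0 := fun _ hw =>
  ⟨_, frameOdd_off (h2 := two_ne_zero_three) hw⟩

theorem off_w0 : Φ7.Off w0 := fun b => by
  simp [w0, OrthBN.frameOdd, Orth.coe_quadOdd, Orth.polar_quadOdd, Pi.single_apply]

theorem Q_w0 : Q7 w0 ≠ 0 := by
  simp [w0, Orth.coe_quadOdd, quadFormOdd]

/-- The extension of a map onto Ω with central kernel in which the deviations vanish. -/
def extOf {Γ : Type} [Group Γ] (π : Γ →* O7) (hr : π.range = Omega (ZMod 3) ⇑Q7)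
    (hc : π.ker ≤ Subgroup.center Γ) (hd : OrthMult.ThirdCommute Φ7 π) : OrthMult.Ext Φ7 Γ where
  π := π
  range_eq := hr
  central := hc
  hN := le_rfl
  rels := .inr ⟨ok7, (ZMod.card 3).ge, hd⟩
  eich_mem := omega_eq.ge

theorem exists_surj_six (Γ : Type) [Group Γ] [Finite Γ] (σ : Γ →* P7) (hσ : Cfsg.IsStemExtension σ) :
    ∃ f : Multiplicative (ZMod 6) →* σ.ker, Function.Surjective f := by
  classical
  obtain ⟨hsurj, hcen, hcom⟩ := hσ
  have hperf : commutator Γ = ⊤ := by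
    refine top_le_iff.1 fun g _ => ?_
    have hP : commutator P7 = ⊤ := by
      have h := congrArg (Subgroup.map pomega_equiv.toMonoidHom) omega_perfect
      have hs : Function.Surjective pomega_equiv.toMonoidHom := pomega_equiv.surjective
      rwa [commutator_def, Subgroup.map_commutator, Subgroup.map_top_of_surjective _ hs,
        ← commutator_def] at h
    have hmap : (commutator Γ).map σ = ⊤ := by
      rw [commutator_def, Subgroup.map_commutator, Subgroup.map_top_of_surjective σ hsurj, ← commutator_def, hP]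
    obtain ⟨y, hy, e⟩ := hmap.ge (Subgroup.mem_top (σ g))
    have : y⁻¹ * g ∈ σ.ker := by rw [MonoidHom.mem_ker, map_mul, map_inv, e, inv_mul_cancel]
    simpa using mul_mem hy (hcom this)
  let π : Γ →* O7 := (Omega (ZMod 3) ⇑Q7).subtype.comp (pomega_equiv.symm.toMonoidHom.comp σ)
  have hk : π.ker = σ.ker := by
    ext x
    simp only [π, MonoidHom.mem_ker, MonoidHom.comp_apply]
    exact ⟨fun h => pomega_equiv.symm.injective ((Subtype.ext h : _ = (1 : Omega (ZMod 3) ⇑Q7)).trans (map_one _).symm),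
      fun h => by rw [h, map_one, map_one]⟩
  have hr : π.range = Omega (ZMod 3) ⇑Q7 := by
    rw [MonoidHom.range_comp, MonoidHom.range_eq_top.2 (pomega_equiv.symm.surjective.comp hsurj),
      ← MonoidHom.range_eq_map, Subgroup.range_subtype]
  have hπc : π.ker ≤ Subgroup.center Γ := hk ▸ hcen
  obtain ⟨c, hck, hc3, hdev⟩ := exists_dev π hr hπc
  let K := Subgroup.zpowers c
  haveI : K.Normal := ⟨fun x hx y => by
    rw [Subgroup.mem_center_iff.1 (hπc (Subgroup.zpowers_le.2 hck hx)) y, mul_inv_cancel_right]; exact hx⟩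
  have hKπ : K ≤ π.ker := Subgroup.zpowers_le.2 hck
  let π' : Γ ⧸ K →* O7 := QuotientGroup.lift K π hKπ
  have hc' : π'.ker ≤ Subgroup.center (Γ ⧸ K) := by
    intro q hq
    obtain ⟨x, rfl⟩ := QuotientGroup.mk'_surjective K q
    refine Subgroup.mem_center_iff.2 fun r => ?_
    obtain ⟨y, rfl⟩ := QuotientGroup.mk'_surjective K r
    rw [← map_mul, ← map_mul, Subgroup.mem_center_iff.1 (hπc (show π x = 1 from hq)) y]
  have hr' : π'.range = Omega (ZMod 3) ⇑Q7 := by
    refine le_antisymm ?_ (hr.ge.trans ?_)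
    · rintro _ ⟨q, rfl⟩
      obtain ⟨x, rfl⟩ := QuotientGroup.mk'_surjective K q
      exact hr.le ⟨x, rfl⟩
    · rintro _ ⟨x, rfl⟩
      exact ⟨QuotientGroup.mk' K x, rfl⟩
  have hd : OrthMult.ThirdCommute Φ7 π' := by
    intro a x y w hw h1 h2 h3 t g h hg hh
    obtain ⟨g, rfl⟩ := QuotientGroup.mk'_surjective K g
    obtain ⟨h, rfl⟩ := QuotientGroup.mk'_surjective K h
    refine commutatorElement_eq_one_iff_commute.1 ?_
    rw [← map_commutatorElement, QuotientGroup.mk'_apply, QuotientGroup.eq_one_iff]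
    exact hdev a x y w hw h1 h2 h3 t g h hg hh
  let X := extOf π' hr' hc' hd
  have hp' : commutator (Γ ⧸ K) = ⊤ := by
    have h := congrArg (Subgroup.map (QuotientGroup.mk' K)) hperf
    rwa [commutator_def, Subgroup.map_commutator,
      Subgroup.map_top_of_surjective _ (QuotientGroup.mk'_surjective K), ← commutator_def] at h
  let p₀ : Fin 3 := 1
  let r₀ : Fin 3 := 2
  obtain ⟨z, hz⟩ := QuotientGroup.mk'_surjective K (OrthMult.zz X.D p₀ r₀)
  have hne : p₀ ≠ r₀ := by decide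
  have hzk : z ∈ π.ker := by
    rw [MonoidHom.mem_ker, show π z = π' (QuotientGroup.mk' K z) from rfl, hz]
    exact X.π_zz_one_of hne
  have hline : ∀ x ∈ π.ker, x ∈ K ∨ z⁻¹ * x ∈ K := fun x hx => by
    rcases X.ker_two (OrthMult.Ext.kerTwo_line off_w0 Q_w0 hline7 (p₀ := p₀) (r₀ := r₀) rfl rfl) hp'
      (g := QuotientGroup.mk' K x) hx with e | e
    · exact .inl ((QuotientGroup.eq_one_iff x).1 e)
    · exact .inr ((QuotientGroup.eq).1 (hz.trans e.symm))
  have hz2 : z ^ 2 ∈ K := by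
    rcases hline (z * z) (mul_mem hzk hzk) with e | e
    · rwa [pow_two]
    · rw [inv_mul_cancel_left] at e
      exact pow_mem e 2
  have hK3 : ∀ u ∈ K, u ^ 3 = 1 := by
    rintro _ ⟨i, rfl⟩
    show (c ^ i) ^ 3 = 1
    rw [← zpow_natCast (c ^ i) 3, ← zpow_mul, mul_comm, zpow_mul, zpow_natCast, hc3, one_zpow]
  set a := c * z ^ 3
  have hcomm : Commute c (z ^ 3) := (Subgroup.mem_center_iff.1 (hπc hck) (z ^ 3)).symm
  have hz6 : z ^ 6 = 1 := by rw [show z ^ 6 = (z ^ 2) ^ 3 by rw [← pow_mul]]; exact hK3 _ hz2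
  have ha6 : a ^ 6 = 1 := by
    rw [hcomm.mul_pow, show c ^ 6 = (c ^ 3) ^ 2 by rw [← pow_mul], hc3, one_pow, one_mul,
      show (z ^ 3) ^ 6 = (z ^ 6) ^ 3 by rw [← pow_mul, ← pow_mul], hz6, one_pow]
  have hac : a ^ 4 = c := by
    rw [hcomm.mul_pow, show c ^ 4 = c ^ 3 * c from pow_succ c 3, hc3, one_mul,
      show (z ^ 3) ^ 4 = (z ^ 6) ^ 2 by rw [← pow_mul, ← pow_mul], hz6, one_pow, mul_one]
  have hKa : K ≤ Subgroup.zpowers a :=
    Subgroup.zpowers_le.2 (hac ▸ pow_mem (Subgroup.mem_zpowers a) 4)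
  have hza : z ∈ Subgroup.zpowers a := by
    have h3 : z ^ 3 ∈ Subgroup.zpowers a := by
      rw [show z ^ 3 = c⁻¹ * a by simp [a]]
      exact mul_mem (inv_mem (hKa (Subgroup.mem_zpowers c))) (Subgroup.mem_zpowers a)
    rw [show z = (z ^ 2)⁻¹ * z ^ 3 by group]
    exact mul_mem (inv_mem (hKa hz2)) h3
  have hgen : ∀ x ∈ σ.ker, x ∈ Subgroup.zpowers a := fun x hx => by
    rcases hline x (hk ▸ hx) with e | e
    · exact hKa e
    · have := mul_mem hza (hKa e)
      rwa [mul_inv_cancel_left] at this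
  have ha : a ∈ σ.ker := hk ▸ mul_mem hck (pow_mem hzk 3)
  let a' : σ.ker := ⟨a, ha⟩
  have hdvd : (zmultiplesHom (Additive σ.ker) (Additive.ofMul a')) ((6 : ℕ) : ℤ) = 0 := by
    rw [zmultiplesHom_apply, natCast_zsmul, ← ofMul_pow]
    exact congrArg Additive.ofMul (Subtype.ext ha6 : a' ^ 6 = 1)
  let f : Multiplicative (ZMod 6) →* σ.ker :=
    AddMonoidHom.toMultiplicativeLeft (ZMod.lift 6 ⟨zmultiplesHom (Additive σ.ker) (Additive.ofMul a'), hdvd⟩)
  refine ⟨f, fun x => ?_⟩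
  obtain ⟨i, hi⟩ := hgen x.1 x.2
  refine ⟨Multiplicative.ofAdd (i : ZMod 6), ?_⟩
  show Additive.toMul ((ZMod.lift 6 ⟨_, hdvd⟩) (i : ZMod 6)) = x
  rw [ZMod.lift_coe]
  exact Subtype.ext hi

theorem exists_double_cover :
    ∃ (Γ : Type) (_ : Group Γ) (_ : Finite Γ) (σ : Γ →* P7),
      Cfsg.IsStemExtension σ ∧ Nat.card σ.ker = 2 := by
  classical
  let X₀ := OrthMult.spinExt Φ7 le_rfl (.inr ⟨ok7, (ZMod.card 3).ge, OrthMult.thirdCommute_spin omega_eq.ge⟩) omega_eq
  let X := X₀.derived perfect7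
  haveI hfin : Finite (commutator (OrthMult.liftGrp Q7)) := X₀.finite_derived
  have hp : commutator (commutator (OrthMult.liftGrp Q7)) = ⊤ := X₀.derived_perfect perfect7
  let p₀ : Fin 3 := 1
  let r₀ : Fin 3 := 2
  have hne : p₀ ≠ r₀ := by decide
  have hz : OrthMult.zz X.D p₀ r₀ ≠ 1 := fun e =>
    OrthMult.zz_spinExt_ne_one Φ7 le_rfl (.inr ⟨ok7, (ZMod.card 3).ge, OrthMult.thirdCommute_spin omega_eq.ge⟩) omega_eq h2_three hne (by
      have := OrthMult.Ext.map_zz' X₀ X (commutator (OrthMult.liftGrp Q7)).subtype (fun _ => rfl) hne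
      rw [e, map_one] at this
      exact this.symm)
  have hmem : ∀ g, X.π g ∈ Omega (ZMod 3) ⇑Q7 := fun g => X.range_eq ▸ ⟨g, rfl⟩
  let θ : commutator (OrthMult.liftGrp Q7) →* P7 := pomega_equiv.toMonoidHom.comp (X.π.codRestrict _ hmem)
  have hker : θ.ker = X.π.ker := by
    ext g
    simp only [θ, MonoidHom.mem_ker, MonoidHom.comp_apply]
    exact ⟨fun h => congrArg Subtype.val (pomega_equiv.injective (h.trans (map_one _).symm)),
      fun h => by rw [show X.π.codRestrict _ hmem g = 1 from Subtype.ext h, map_one]⟩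
  refine ⟨_, inferInstance, hfin, θ, ⟨?_, hker.le.trans X.central, by rw [hp]; exact le_top⟩, ?_⟩
  · refine pomega_equiv.surjective.comp fun y => ?_
    obtain ⟨g, hg⟩ : y.1 ∈ X.π.range := by rw [X.range_eq]; exact y.2
    exact ⟨g, Subtype.ext hg⟩
  · have hset : (θ.ker : Set _) = {1, OrthMult.zz X.D p₀ r₀} := by
      ext g
      rw [SetLike.mem_coe, hker, MonoidHom.mem_ker, Set.mem_insert_iff, Set.mem_singleton_iff]
      refine ⟨X.ker_two (OrthMult.Ext.kerTwo_line off_w0 Q_w0 hline7 rfl rfl) hp, ?_⟩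
      rintro (rfl | rfl)
      · exact map_one _
      · exact X.π_zz_one_of hne
    rw [← SetLike.coe_sort_coe, Nat.card_coe_set_eq, hset]
    exact Set.ncard_pair hz.symm

end Cfsg.Agent.MultiplierOSeven
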