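/-
The triple cover of PΩ₇(3) by monomial permutations on 3 × 378 points.

Main result: `exists_triple_cover`.
-/
import Cfsg.Agent.Lib.MultiplierOSeven.Two
import Cfsg.Agent.Lib.MultiplierOSeven.CheckShape
import Cfsg.Agent.Lib.MultiplierOSeven.CheckBlocks
import Cfsg.Agent.Lib.MultiplierOSeven.CheckEdgesA
import Cfsg.Agent.Lib.MultiplierOSeven.CheckEdgesB

set_option autoImplicit false
set_option linter.style.haveILetI false
set_option maxRecDepth 100000
set_option Elab.async false
set_option maxHeartbeats 2000000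

open Cfsg
open scoped commutatorElement

namespace Cfsg.Agent.MultiplierOSeven

open Cfsg.Agent.StabCert Cfsg.Agent.MatchedCover OSevenThree

/-- Ω₇(3). -/
noncomputable abbrev OM : Subgroup O7 := Omega (ZMod 3) ⇑Q7

/-- An isometry as a permutation of the vectors. -/
noncomputable def vperm : O7 →* Equiv.Perm (Idx → ZMod 3) where
  toFun g :=
    { toFun := fun x => Orth.ap g x
      invFun := fun x => Orth.ap g⁻¹ x
      left_inv := fun x => by simp only; rw [← Orth.ap_mul, inv_mul_cancel, Orth.ap_one]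
      right_inv := fun x => by simp only; rw [← Orth.ap_mul, mul_inv_cancel, Orth.ap_one] }
  map_one' := Equiv.ext fun x => Orth.ap_one x
  map_mul' g h := Equiv.ext fun x => Orth.ap_mul g h x

/-- The action. -/
noncomputable def act7 : OM →* Equiv.Perm (Idx → ZMod 3) := vperm.comp OM.subtype

/-- The six generators. -/
noncomputable def gen6 (k : ℕ) : OM := ⟨gen alphabet (simpleRoots.getD k 0), gen_mem_omega7 _⟩

/-- The points. -/
def pt7 (q : ℕ) : Idx → ZMod 3 := toVec (Cover.pointCodes.getD q 0)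

theorem points_ok : (Nat.beq Cover.pointCodes.length 756 &&
    (Cover.pointCodes.all fun p => norm p == p) && distinctFrom ((List.range 756).map fun q =>
      let p := Cover.pointCodes.getD q 0
      dg p 0 + 3 * dg p 1 + 9 * dg p 2 + 27 * dg p 3 + 81 * dg p 4 + 243 * dg p 5 + 729 * dg p 6) 0) = true := by
  decide +kernel

theorem tab_ok : ((List.range 6).all fun k => (List.range 756).all fun q =>
    Nat.blt (look 10 (Cover.tab.getD k 0) q) 756 &&
      app (genCode alphabet (simpleRoots.getD k 0)) (Cover.pointCodes.getD q 0) ==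
        Cover.pointCodes.getD (look 10 (Cover.tab.getD k 0) q) 0) = true := by
  decide +kernel

theorem sound7 : TablesSound act7 gen6 pt7 10 756 6 Cover.tab := by
  intro k hk q hq
  have h := List.all_eq_true.1 (List.all_eq_true.1 tab_ok k (List.mem_range.2 hk)) q (List.mem_range.2 hq)
  simp only [Bool.and_eq_true, Nat.blt_eq, beq_iff_eq] at h
  refine ⟨h.1, ?_⟩
  show Orth.ap (gen alphabet (simpleRoots.getD k 0)) (toVec _) = _
  rw [ap_toVec (mat_gen okA _), h.2, pt7]

theorem pt7_injOn : Set.InjOn pt7 {q | q < 756} := by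
  intro i (hi : i < 756) j (hj : j < 756) e
  have h := points_ok
  simp only [Bool.and_eq_true, Nat.beq_eq, List.all_eq_true, beq_iff_eq] at h
  obtain ⟨⟨hlen, hn⟩, hd⟩ := h
  have hnd := (distinctFrom_spec _ _ hd).1
  have hm : ∀ q < 756, Cover.pointCodes.getD q 0 ∈ Cover.pointCodes := fun q hq => by
    rw [List.getD_eq_getElem _ _ (hlen.symm ▸ hq)]; exact List.getElem_mem _
  have he : Cover.pointCodes.getD i 0 = Cover.pointCodes.getD j 0 :=
    norm_ext (hn _ (hm i hi)) (hn _ (hm j hj)) fun k hk => by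
      obtain ⟨a, rfl⟩ := exists_pos k hk
      exact congrFun e a
  refine List.inj_on_of_nodup_map hnd (List.mem_range.2 hi) (List.mem_range.2 hj) ?_
  simp only [he]

theorem sep7 : Cover.cover.sepOK 378 = true := by
  have hsh := shape_ok
  simp only [Data.shapeOK, List.all_eq_true, Bool.and_eq_true, List.mem_range, Nat.blt_eq, Nat.beq_eq] at hsh
  simp only [Data.sepOK, List.all_eq_true, List.mem_range, Bool.or_eq_true, List.any_eq_true, Nat.beq_eq,
    Bool.not_eq_true']
  intro i hi j hj
  rcases eq_or_ne i j with h | h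
  · exact .inl h
  refine .inr ⟨2 * i, ?_, ?_⟩
  · rw [pairs_ok, List.getD_eq_getElem _ _ (by simp [hi]), List.getElem_map, List.getElem_range]
    exact List.mem_cons_self
  · rw [← (hsh j hj).1.2, Bool.eq_false_iff, ne_eq, testBit_maskOf, pairs_ok,
      List.getD_eq_getElem _ _ (by simp [hj]), List.getElem_map, List.getElem_range]
    simp only [List.mem_cons, List.not_mem_nil, or_false]
    omega

theorem cover_ok : Cover.cover.OK 378 3 756 10 6 Cover.tab where
  perm k hk := List.all_eq_true.1 perm_all k (List.mem_range.2 hk)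
  edge k hk := by interval_cases k <;> [exact edge0; exact edge1; exact edge2; exact edge3; exact edge4; exact edge5]
  block k hk := by
    by_cases h : k < 3
    · exact List.all_eq_true.1 block0 k (List.mem_range.2 h)
    · have := List.all_eq_true.1 block3 (k - 3) (List.mem_range.2 (by omega))
      rwa [Nat.sub_add_cancel (by omega)] at this
  shape := shape_ok
  sep := sep7
  tree := tree_ok

theorem closure_gen6 : Subgroup.closure (gen6 '' {k | k < 6}) = ⊤ := by
  apply Subgroup.map_injective OM.subtype_injective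
  rw [MonoidHom.map_closure, ← MonoidHom.range_eq_map, Subgroup.range_subtype]
  refine Eq.trans (congrArg _ ?_) closure_simple
  have hl : simpleRoots.length = 6 := rfl
  ext x
  constructor
  · rintro ⟨_, ⟨k, hk, rfl⟩, rfl⟩
    refine ⟨simpleRoots.getD k 0, ?_, rfl⟩
    show _ ∈ simpleRoots
    rw [List.getD_eq_getElem _ _ (hl.symm ▸ hk)]
    exact List.getElem_mem _
  · rintro ⟨l, hl', rfl⟩
    obtain ⟨k, hk, rfl⟩ := List.mem_iff_getElem.1 (show l ∈ simpleRoots from hl')
    exact ⟨gen6 k, ⟨k, (show k < 6 from hl ▸ hk), rfl⟩, by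
      show gen alphabet (simpleRoots.getD k 0) = _
      rw [List.getD_eq_getElem _ _ hk]⟩

/-- The two words commute below and the shifts differ by two. -/
theorem words_ok : ((Cover.wordU ++ Cover.wordV).all (fun k => Nat.blt k 6) &&
    code alphabet ((Cover.wordU ++ Cover.wordV).map fun k => simpleRoots.getD k 0) ==
      code alphabet ((Cover.wordV ++ Cover.wordU).map fun k => simpleRoots.getD k 0) &&
    Nat.beq (Cover.cover.evN 3 (Cover.wordU ++ Cover.wordV) (0, 0)).2
      (((Cover.cover.evN 3 (Cover.wordV ++ Cover.wordU) (0, 0)).2 + 2) % 3)) = true := by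
  decide +kernel

/-- Permutations of the points of the cover. -/
abbrev CP7 : Type := Equiv.Perm (Fin 378 × ZMod 3)

theorem exists_triple_cover :
    ∃ (Γ : Type) (_ : Group Γ) (_ : Finite Γ) (σ : Γ →* P7),
      Cfsg.IsStemExtension σ ∧ Nat.card σ.ker = 3 := by
  classical
  let g2 : ℕ → CP7 × OM := fun k => (Cover.cover.genP 378 3 k, gen6 k)
  let Γ : Subgroup (CP7 × OM) := StabCert.sub g2 (List.range 6)
  haveI : Finite O7 := inferInstance
  have hgood : ∀ x ∈ Γ, Data.Good Cover.cover 378 3 act7 pt7 x.1 x.2 := by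
    intro x hx
    rw [← Subgroup.mem_toSubmonoid, show Γ = Subgroup.closure _ from rfl,
      Subgroup.closure_toSubmonoid_of_finite] at hx
    induction hx using Submonoid.closure_induction with
    | mem y hy =>
      obtain ⟨k, hk, rfl⟩ := hy
      exact Data.good_gen act7 pt7 cover_ok sound7 (List.mem_range.1 hk)
    | one => exact Data.good_one act7 pt7
    | mul y z _ _ hy hz => exact Data.good_mul act7 pt7 hy hz
  let τ : Γ →* OM := (MonoidHom.snd CP7 OM).comp Γ.subtype
  let σ : Γ →* P7 := pomega_equiv.toMonoidHom.comp τ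
  have hkσ : σ.ker = τ.ker := by
    ext x
    exact ⟨fun h => pomega_equiv.injective (h.trans (map_one _).symm),
      fun h => (congrArg pomega_equiv h).trans (map_one _)⟩
  have hker : ∀ x : Γ, x ∈ τ.ker → ∃ a : ℤ, x.1.1 = Data.shift 378 3 ^ a := by
    intro x hx
    exact Data.eq_zpow_of_trivial act7 pt7 cover_ok pt7_injOn (hgood x.1 x.2)
      (by rw [show x.1.2 = 1 from hx, map_one])
  have hsurj : Function.Surjective τ := by
    intro y
    have hle : Subgroup.closure (gen6 '' {k | k < 6}) ≤ τ.range := by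
      rw [Subgroup.closure_le]
      rintro _ ⟨k, hk, rfl⟩
      exact ⟨⟨g2 k, gen_mem_sub g2 (List.mem_range.2 hk)⟩, rfl⟩
    exact hle (closure_gen6 ▸ Subgroup.mem_top y)
  have hcen : τ.ker ≤ Subgroup.center Γ := by
    intro x hx
    obtain ⟨a, ea⟩ := hker x hx
    refine Subgroup.mem_center_iff.2 fun y => Subtype.ext (Prod.ext ?_ ?_)
    · show y.1.1 * x.1.1 = x.1.1 * y.1.1
      rw [ea]
      exact Commute.zpow_right (Data.commute_shift act7 pt7 (hgood y.1 y.2)) a
    · show y.1.2 * x.1.2 = x.1.2 * y.1.2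
      rw [show x.1.2 = 1 from hx, mul_one, one_mul]
  let o : Fin 378 × ZMod 3 := (0, 0)
  let crd : Γ → ZMod 3 := fun x => (x.1.1 o).2
  let f : τ.ker →* Multiplicative (ZMod 3) :=
    MonoidHom.mk' (fun x => Multiplicative.ofAdd (crd x.1)) fun x y => by
      obtain ⟨a, ea⟩ := hker x.1 x.2
      obtain ⟨b, eb⟩ := hker y.1 y.2
      rw [← ofAdd_add]
      congr 1
      show ((x.1.1.1 * y.1.1.1) o).2 = _
      simp only [crd, o, ea, eb, Equiv.Perm.mul_apply, Data.shift_zpow_apply, zero_add]
      rw [add_comm]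
  have hinj : Function.Injective f := by
    refine (injective_iff_map_eq_one f).2 fun x hx => Subtype.ext (Subtype.ext ?_)
    obtain ⟨a, ea⟩ := hker x.1 x.2
    have hz : crd x.1 = 0 := hx
    simp only [crd, o, ea, Data.shift_zpow_apply, zero_add] at hz
    obtain ⟨q, rfl⟩ := (ZMod.intCast_zmod_eq_zero_iff_dvd a 3).1 hz
    refine Prod.ext ?_ (show x.1.1.2 = 1 from x.2)
    rw [ea, zpow_mul, Data.shift_pow_eq_one, one_zpow]
    rfl
  have hw := words_ok
  simp only [Bool.and_eq_true, List.all_eq_true, Nat.blt_eq, beq_iff_eq, Nat.beq_eq] at hw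
  obtain ⟨⟨hlt, hcode⟩, hshift⟩ := hw
  have hu : ∀ k ∈ Cover.wordU, k < 6 := fun k hk => hlt k (List.mem_append_left _ hk)
  have hv : ∀ k ∈ Cover.wordV, k < 6 := fun k hk => hlt k (List.mem_append_right _ hk)
  have hvu : ∀ k ∈ Cover.wordV ++ Cover.wordU, k < 6 := fun k hk => (List.mem_append.1 hk).elim (hv k) (hu k)
  let X : Γ := ⟨wordEl g2 Cover.wordU, wordEl_mem g2 fun k hk => List.mem_range.2 (hu k hk)⟩
  let Y : Γ := ⟨wordEl g2 Cover.wordV, wordEl_mem g2 fun k hk => List.mem_range.2 (hv k hk)⟩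
  have hsnd : ∀ l, ((wordEl g2 l).2 : O7) = eval alphabet (l.map fun k => simpleRoots.getD k 0) := fun l => by
    show OM.subtype.comp (MonoidHom.snd CP7 OM) (wordEl g2 l) = _
    rw [wordEl, map_list_prod, List.map_map, eval, List.map_map]
    rfl
  have hfst : ∀ l, (wordEl g2 l).1 = (l.map (Cover.cover.genP 378 3)).prod := fun l => by
    show MonoidHom.fst CP7 OM (wordEl g2 l) = _
    rw [wordEl, map_list_prod, List.map_map]
    rfl
  have hck : ⁅X, Y⁆ ∈ τ.ker := by
    rw [MonoidHom.mem_ker, map_commutatorElement, commutatorElement_eq_one_iff_commute]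
    refine Subtype.ext ?_
    show ((wordEl g2 Cover.wordU).2 : O7) * (wordEl g2 Cover.wordV).2 =
      ((wordEl g2 Cover.wordV).2 : O7) * (wordEl g2 Cover.wordU).2
    rw [hsnd, hsnd, ← eval_append, ← eval_append, ← List.map_append, ← List.map_append]
    exact eval_eq_of_code okA hcode
  have hc2 : crd ⁅X, Y⁆ = 2 := by
    obtain ⟨a, ea⟩ := hker _ hck
    have hprod : (⁅X, Y⁆ * (Y * X) : Γ) = X * Y := by rw [commutatorElement_def]; group
    have eA : (⁅X, Y⁆ : Γ).1.1 * (wordEl g2 (Cover.wordV ++ Cover.wordU)).1 =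
        (wordEl g2 (Cover.wordU ++ Cover.wordV)).1 := by
      rw [wordEl_append, wordEl_append]
      exact congrArg (fun t : Γ => t.1.1) hprod
    rw [ea, hfst, hfst] at eA
    obtain ⟨-, e1⟩ := Data.evN_spec cover_ok (Cover.wordU ++ Cover.wordV) hlt 0 0 (by norm_num)
    obtain ⟨-, e2⟩ := Data.evN_spec cover_ok (Cover.wordV ++ Cover.wordU) hvu 0 0 (by norm_num)
    rw [← eA, Equiv.Perm.mul_apply, e2, Data.shift_zpow_apply] at e1
    have e3 := congrArg Prod.snd e1
    simp only [hshift, ZMod.natCast_mod, Nat.cast_add] at e3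
    simp only [crd, o, ea, Data.shift_zpow_apply, zero_add]
    exact add_left_cancel e3
  have hgen : ∀ y : Multiplicative (ZMod 3), ∃ i : ℕ, f (⟨⁅X, Y⁆, hck⟩ ^ i) = y := by
    intro y
    refine ⟨(2 * y.toAdd).val, ?_⟩
    rw [map_pow]
    show Multiplicative.ofAdd (crd ⁅X, Y⁆) ^ _ = _
    rw [hc2, ← ofAdd_nsmul]
    refine congrArg Multiplicative.ofAdd (?_ : _ = y.toAdd)
    generalize y.toAdd = t
    revert t
    decide
  refine ⟨Γ, inferInstance, inferInstance, σ, ⟨pomega_equiv.surjective.comp hsurj, hkσ.le.trans hcen,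
    fun x hx => ?_⟩, ?_⟩
  · obtain ⟨i, e⟩ := hgen (f ⟨x, hkσ ▸ hx⟩)
    rw [show x = ⁅X, Y⁆ ^ i from (congrArg Subtype.val (hinj e.symm) :)]
    exact pow_mem (Subgroup.commutator_mem_commutator (Subgroup.mem_top _) (Subgroup.mem_top _)) i
  · rw [hkσ, Nat.card_eq_of_bijective f ⟨hinj, fun y => ⟨_, (hgen y).choose_spec⟩⟩,
      Nat.card_congr Multiplicative.toAdd, Nat.card_zmod]

end Cfsg.Agent.MultiplierOSeven
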