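/-
Transport of Schur multipliers along isomorphisms, and change of field in the odd orthogonal groups.

* `hasSchurMultiplier_congr`: isomorphic groups, in any universes, have the same multipliers.
* `pomegaOddEquiv`: isomorphic fields give isomorphic groups PΩ_(2m+1).
-/
import Cfsg.Prelude.Def_KGroupFacts
import Cfsg.Prelude.Def_Classical
import Mathlib

set_option autoImplicit false

open Cfsg

universe u v w

namespace Cfsg.Agent.MultiplierOSeven

/-- Multipliers along an isomorphism, for small groups. -/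
theorem hasSchurMultiplier_congr {G : Type} [Group G] {H : Type u} [Group H] (e : G ≃* H) {A : Type v}
    [CommGroup A] (hG : Cfsg.HasSchurMultiplier G A) :
    Cfsg.HasSchurMultiplier H A := by
  refine ⟨?_, fun Γ _ _ σ hσ => ?_⟩
  · obtain ⟨Γ, _, _, σ, hσ, ⟨k⟩⟩ := hG.1
    let τ : ULift.{u} Γ →* H := e.toMonoidHom.comp (σ.comp MulEquiv.ulift.toMonoidHom)
    have hmem : ∀ x : ULift.{u} Γ, x ∈ τ.ker ↔ x.down ∈ σ.ker := fun x => by
      simp only [MonoidHom.mem_ker]
      exact ⟨fun h => e.injective (h.trans (map_one _).symm), fun h => (congrArg e h).trans (map_one _)⟩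
    refine ⟨ULift.{u} Γ, inferInstance, inferInstance, τ, ⟨?_, ?_, ?_⟩, ⟨?_⟩⟩
    · exact e.surjective.comp (hσ.1.comp MulEquiv.ulift.surjective)
    · intro x hx
      exact Subgroup.mem_center_iff.2 fun g => ULift.ext _ _
        (Subgroup.mem_center_iff.1 (hσ.2.1 ((hmem x).1 hx)) g.down)
    · intro x hx
      have h := Subgroup.mem_map_of_mem MulEquiv.ulift.symm.toMonoidHom (hσ.2.2 ((hmem x).1 hx))
      rw [commutator_def, Subgroup.map_commutator] at h
      exact Subgroup.commutator_mono le_top le_top h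
    · exact MulEquiv.trans
        { toFun := fun x => ⟨x.1.down, (hmem _).1 x.2⟩
          invFun := fun y => ⟨ULift.up y.1, (hmem _).2 y.2⟩
          left_inv := fun _ => rfl
          right_inv := fun _ => rfl
          map_mul' := fun _ _ => rfl } k
  · haveI : Small.{0} Γ := small_of_injective (Finite.equivFin Γ).injective
    let d : Shrink.{0} Γ ≃* Γ := Shrink.mulEquiv
    let τ : Shrink.{0} Γ →* G := e.symm.toMonoidHom.comp (σ.comp d.toMonoidHom)
    have hmem : ∀ x, x ∈ τ.ker ↔ d x ∈ σ.ker := fun x => by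
      simp only [MonoidHom.mem_ker]
      exact ⟨fun h => e.symm.injective (h.trans (map_one _).symm),
        fun h => (congrArg e.symm h).trans (map_one _)⟩
    have hτ : Cfsg.IsStemExtension τ := by
      refine ⟨e.symm.surjective.comp (hσ.1.comp d.surjective), fun x hx => ?_, fun x hx => ?_⟩
      · exact Subgroup.mem_center_iff.2 fun g => d.injective (by
          rw [map_mul, map_mul]
          exact Subgroup.mem_center_iff.1 (hσ.2.1 ((hmem x).1 hx)) (d g))
      · have h := Subgroup.mem_map_of_mem d.symm.toMonoidHom (hσ.2.2 ((hmem x).1 hx))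
        rw [commutator_def, Subgroup.map_commutator] at h
        rw [← d.symm_apply_apply x]
        exact Subgroup.commutator_mono le_top le_top h
    haveI : Finite (Shrink.{0} Γ) := Finite.of_equiv Γ d.symm.toEquiv
    obtain ⟨π, hπ⟩ := hG.2 (Shrink.{0} Γ) τ hτ
    let k : τ.ker →* σ.ker := (d.toMonoidHom.comp τ.ker.subtype).codRestrict σ.ker fun x => (hmem x.1).1 x.2
    have hk : Function.Surjective k := fun y => ⟨⟨d.symm y.1, (hmem _).2 (by
      rw [d.apply_symm_apply]; exact y.2)⟩, Subtype.ext (d.apply_symm_apply _)⟩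
    exact ⟨k.comp π, hk.comp hπ⟩

variable {F : Type v} [Field F] {K : Type w} [Field K] (e : F ≃+* K) (m : ℕ)

/-- The general linear groups. -/
def glEquiv (ι : Type) [Fintype ι] [DecidableEq ι] :
    Matrix.GeneralLinearGroup ι F ≃* Matrix.GeneralLinearGroup ι K :=
  Units.mapEquiv (RingEquiv.mapMatrix e).toMulEquiv

theorem quad_map (v : Unit ⊕ (Fin m ⊕ Fin m) → F) :
    quadFormOdd m K (fun i => e (v i)) = e (quadFormOdd m F v) := by
  simp [quadFormOdd, map_sum]

theorem mem_iso_iff (g : Matrix.GeneralLinearGroup (Unit ⊕ (Fin m ⊕ Fin m)) F) :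
    glEquiv e _ g ∈ isometryGroup K (quadFormOdd m K) ↔ g ∈ isometryGroup F (quadFormOdd m F) := by
  have key : ∀ x, Matrix.mulVec ((glEquiv e _ g : Matrix.GeneralLinearGroup (Unit ⊕ (Fin m ⊕ Fin m)) K) : Matrix _ _ K)
      (fun i => e (x i)) = fun i => e (Matrix.mulVec (g : Matrix (Unit ⊕ (Fin m ⊕ Fin m)) (Unit ⊕ (Fin m ⊕ Fin m)) F) x i) := fun x => by
    funext i
    show ∑ j, e ((g : Matrix (Unit ⊕ (Fin m ⊕ Fin m)) (Unit ⊕ (Fin m ⊕ Fin m)) F) i j) * e (x j) = e (∑ j, (g : Matrix (Unit ⊕ (Fin m ⊕ Fin m)) (Unit ⊕ (Fin m ⊕ Fin m)) F) i j * x j)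
    simp [map_sum]
  constructor
  · intro h x v
    have h' := h (fun i => e (x i)) (fun i => e (x i))
    simp only [Units.coeHom_apply] at h' ⊢
    rw [key, quad_map, quad_map] at h'
    exact e.injective h'
  · intro h y v
    obtain ⟨x, rfl⟩ : ∃ x : Unit ⊕ (Fin m ⊕ Fin m) → F, y = fun i => e (x i) :=
      ⟨fun i => e.symm (y i), funext fun i => (e.apply_symm_apply _).symm⟩
    have h' := h x x
    simp only [Units.coeHom_apply] at h' ⊢
    rw [key, quad_map, quad_map, h']

/-- The isometry groups. -/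
noncomputable def isoEquiv :
    isometryGroup F (quadFormOdd m F) ≃* isometryGroup K (quadFormOdd m K) :=
  ((glEquiv e _).subgroupMap _).trans (MulEquiv.subgroupCongr (by
    ext g
    constructor
    · rintro ⟨x, hx, rfl⟩
      exact (mem_iso_iff e m x).2 hx
    · intro h
      obtain ⟨x, rfl⟩ := (glEquiv e _).surjective g
      exact ⟨x, (mem_iso_iff e m x).1 h, rfl⟩))

/-- The groups Ω. -/
noncomputable def omegaEquiv : Omega F (quadFormOdd m F) ≃* Omega K (quadFormOdd m K) :=
  ((isoEquiv e m).subgroupMap _).trans (MulEquiv.subgroupCongr (by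
    show Subgroup.map (isoEquiv e m).toMonoidHom _ = _
    rw [Omega, commutator_def, Subgroup.map_commutator, Subgroup.map_top_of_surjective _ (isoEquiv e m).surjective,
      ← commutator_def]))

/-- The groups PΩ. -/
noncomputable def pomegaOddEquiv : POmega F (quadFormOdd m F) ≃* POmega K (quadFormOdd m K) :=
  QuotientGroup.congr _ _ (omegaEquiv e m) (by
    ext y
    simp only [Subgroup.mem_map, Subgroup.mem_center_iff]
    constructor
    · rintro ⟨x, hx, rfl⟩ g
      obtain ⟨g, rfl⟩ := (omegaEquiv e m).surjective g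
      show omegaEquiv e m g * omegaEquiv e m x = omegaEquiv e m x * omegaEquiv e m g
      rw [← map_mul, hx, map_mul]
    · intro h
      obtain ⟨x, rfl⟩ := (omegaEquiv e m).surjective y
      exact ⟨x, fun g => (omegaEquiv e m).injective (by rw [map_mul, map_mul]; exact h _), rfl⟩)

end Cfsg.Agent.MultiplierOSeven
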