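/-
The Schur multiplier of PΩ₇(3) is cyclic of order six.

Main result: `multiplier_zmod_three`.
-/
import Cfsg.Agent.Lib.MultiplierOSeven.Cover
import Cfsg.Agent.Lib.CoverSixSeven.Bound

set_option autoImplicit false
set_option linter.style.haveILetI false

open Cfsg

namespace Cfsg.Agent.MultiplierOSeven

open CoverSixSeven in
theorem exists_six_cover :
    ∃ (Γ : Type) (_ : Group Γ) (_ : Finite Γ) (σ : Γ →* P7),
      Cfsg.IsStemExtension σ ∧ Nonempty (σ.ker ≃* Multiplicative (ZMod 6)) := by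
  classical
  obtain ⟨Γ₁, _, _, σ₁, hσ₁, h2⟩ := exists_double_cover
  obtain ⟨Γ₂, _, _, σ₂, hσ₂, h3⟩ := exists_triple_cover
  let σ : Fib σ₁ σ₂ →* P7 := (σ₁.comp (MonoidHom.fst _ _)).comp (Fib σ₁ σ₂).subtype
  have hk : ∀ x : Fib σ₁ σ₂, x ∈ σ.ker → x.1.2 ∈ σ₂.ker := fun x hx => by
    rw [MonoidHom.mem_ker, ← (mem_fib σ₁ σ₂).1 x.2]
    exact hx
  have hcop : Nat.Coprime (Nat.card σ₁.ker) (Nat.card σ₂.ker) := by rw [h2, h3]; decide
  have hstem : Cfsg.IsStemExtension σ := by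
    refine ⟨?_, ?_, ?_⟩
    · intro g
      obtain ⟨a, ha⟩ := hσ₁.1 g
      obtain ⟨b, hb⟩ := hσ₂.1 g
      exact ⟨⟨(a, b), ha.trans hb.symm⟩, ha⟩
    · exact fun x hx => Subgroup.mem_center_iff.2 fun g => Subtype.ext (Prod.ext
        ((Subgroup.mem_center_iff.1 (hσ₁.2.1 (show x.1.1 ∈ σ₁.ker from hx))) g.1.1)
        ((Subgroup.mem_center_iff.1 (hσ₂.2.1 (hk x hx))) g.1.2))
    · intro x hx
      have h1 := mem_commutator_fib σ₁ σ₂ hσ₁ hσ₂.1 hcop (show x.1.1 ∈ σ₁.ker from hx)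
      have h2' := mem_commutator_fib σ₂ σ₁ hσ₂ hσ₁.1 hcop.symm (hk x hx)
      let sw : Fib σ₂ σ₁ →* Fib σ₁ σ₂ :=
        { toFun := fun y => ⟨(y.1.2, y.1.1), y.2.symm⟩
          map_one' := rfl
          map_mul' := fun _ _ => rfl }
      have h5 : sw ⟨(x.1.2, 1), (mem_fib σ₂ σ₁).2 (by rw [map_one]; exact hk x hx)⟩ ∈
          commutator (Fib σ₁ σ₂) := by
        have hmap : (commutator (Fib σ₂ σ₁)).map sw ≤ commutator (Fib σ₁ σ₂) := by
          rw [commutator_def, Subgroup.map_commutator]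
          exact Subgroup.commutator_mono le_top le_top
        exact hmap ⟨_, h2', rfl⟩
      convert mul_mem h1 h5 using 1
      exact Subtype.ext (Prod.ext (mul_one _).symm (one_mul _).symm)
  obtain ⟨f, hf⟩ := exists_surj_six _ σ hstem
  let e : σ.ker ≃* σ₁.ker × σ₂.ker :=
    { toFun := fun x => (⟨x.1.1.1, x.2⟩, ⟨x.1.1.2, hk x.1 x.2⟩)
      invFun := fun y => ⟨⟨(y.1.1, y.2.1), (mem_fib σ₁ σ₂).2 (by
        rw [(MonoidHom.mem_ker).1 y.1.2, (MonoidHom.mem_ker).1 y.2.2])⟩, y.1.2⟩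
      left_inv := fun x => rfl
      right_inv := fun y => rfl
      map_mul' := fun x y => rfl }
  have hcard : Nat.card (Multiplicative (ZMod 6)) = Nat.card σ.ker := by
    rw [Nat.card_congr e.toEquiv, Nat.card_prod, h2, h3, Nat.card_congr Multiplicative.toAdd, Nat.card_zmod]
  exact ⟨_, inferInstance, inferInstance, σ, hstem,
    ⟨(MulEquiv.ofBijective f ((Nat.bijective_iff_surjective_and_card f).2 ⟨hf, hcard⟩)).symm⟩⟩

theorem multiplier_zmod_three : Cfsg.HasCyclicSchurMultiplier P7 6 :=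
  ⟨exists_six_cover, fun Γ _ _ σ hσ => exists_surj_six Γ σ hσ⟩

end Cfsg.Agent.MultiplierOSeven
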